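import Groth.Prelude.Def_Hoch
import Groth.Prelude.Def_CoactBr2
import Mathlib.RingTheory.Bialgebra.TensorProduct
import Mathlib.RingTheory.Flat.Basic
import Mathlib.LinearAlgebra.TensorProduct.Tower

/-!
Hochschild cohomology of comodules commutes with flat base change.
-/

set_option autoImplicit false
set_option linter.style.haveILetI false

universe u v w

open TensorProduct

namespace Groth.Agent.HochBC

variable {K : Type u} [CommRing K] {A : Type v} [CommRing A] [Bialgebra K A]
  {V : Type v} [AddCommGroup V] [Module K V] [HopfRep.Comod K A V]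
  {R : Type w} [CommRing R] [Algebra K R]
  (φ : ∀ n : ℕ, R ⊗[K] (Hoch.cochain K A V n) →ₗ[R] (Hoch.cochain R (R ⊗[K] A) (R ⊗[K] V) n))
  (hφ0 : ∀ x : R ⊗[K] V, φ 0 x = x)
  (hφs : ∀ (n : ℕ) (r : R) (c : Hoch.cochain K A V n) (a : A),
    φ (n + 1) (r ⊗ₜ[K] (c ⊗ₜ[K] a)) = (φ n (r ⊗ₜ[K] c)) ⊗ₜ[R] ((1 : R) ⊗ₜ[K] a))

include hφ0 hφs in
theorem bijective : ∀ n, Function.Bijective (φ n)
  | 0 => by
      have : ⇑(φ 0) = id := funext hφ0
      rw [this]; exact Function.bijective_id
  | n + 1 => by
      let e := (AlgebraTensorModule.distribBaseChange K R (Hoch.cochain K A V n) A).trans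
        (TensorProduct.congr (LinearEquiv.ofBijective (φ n) (bijective n)) (LinearEquiv.refl R (R ⊗[K] A)))
      have h : ∀ x, φ (n + 1) x = e x := by
        intro x
        induction x using TensorProduct.induction_on with
        | zero => rw [map_zero, map_zero]
        | add x y hx hy => rw [map_add, map_add, hx, hy]
        | tmul r c =>
          induction c using TensorProduct.induction_on with
          | zero => rw [tmul_zero, map_zero, map_zero]
          | add x y hx hy => rw [tmul_add, map_add, map_add, hx, hy]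
          | tmul c a =>
            rw [hφs]
            simp [e, AlgebraTensorModule.distribBaseChange_tmul]
      have : ⇑(φ (n + 1)) = ⇑e := funext h
      rw [this]; exact e.bijective

/-- `a₁ ⊗ a₂ ↦ (1 ⊗ a₁) ⊗ (1 ⊗ a₂)` -/
noncomputable def double : A ⊗[K] A →ₗ[K] (R ⊗[K] A) ⊗[R] (R ⊗[K] A) :=
  (AlgebraTensorModule.distribBaseChange K R A A).toLinearMap.restrictScalars K ∘ₗ TensorProduct.mk K R (A ⊗[K] A) 1

lemma double_tmul (a b : A) : double (R := R) (a ⊗ₜ[K] b) = ((1 : R) ⊗ₜ[K] a) ⊗ₜ[R] ((1 : R) ⊗ₜ[K] b) := by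
  simp [double, AlgebraTensorModule.distribBaseChange_tmul]

lemma comul_one_tmul (a : A) :
    Coalgebra.comul (R := R) (A := R ⊗[K] A) ((1 : R) ⊗ₜ[K] a) = double (Coalgebra.comul (R := K) a) := by
  rw [TensorProduct.comul_tmul, CommSemiring.comul_apply]
  generalize Coalgebra.comul (R := K) a = y
  induction y using TensorProduct.induction_on with
  | zero => simp
  | add x y hx hy => rw [tmul_add, map_add, map_add, hx, hy]
  | tmul x y => rw [double_tmul]; rfl

lemma redComul_one_tmul (a : A) :
    Hoch.redComul R (R ⊗[K] A) ((1 : R) ⊗ₜ[K] a) = double (Hoch.redComul K A a) := by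
  rw [Hoch.redComul_apply, Hoch.redComul_apply, map_sub, map_sub, double_tmul, double_tmul, comul_one_tmul]
  rfl

include hφ0 hφs in
theorem comm : letI := CoactBr.Comod.baseChange K R A V
    ∀ (n : ℕ) (x : R ⊗[K] (Hoch.cochain K A V n)),
      φ (n + 1) ((Hoch.d K A V n).baseChange R x) = Hoch.d R (R ⊗[K] A) (R ⊗[K] V) n (φ n x) := by
  letI := CoactBr.Comod.baseChange K R A V
  intro n
  induction n with
  | zero =>
    intro x
    induction x using TensorProduct.induction_on with
    | zero => rw [map_zero, map_zero, map_zero, map_zero]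
    | add x y hx hy => rw [map_add, map_add, map_add, map_add, hx, hy]
    | tmul r v =>
      rw [LinearMap.baseChange_tmul, Hoch.d_zero_apply, tmul_sub, map_sub, hφs, hφ0, Hoch.d_zero_apply,
        CoactBr.baseChange_coact_tmul]
      congr 1
      generalize HopfRep.Comod.coact (k := K) (A := A) v = y
      induction y using TensorProduct.induction_on with
      | zero => rw [tmul_zero, tmul_zero, map_zero, map_zero]
      | add x y hx hy => rw [tmul_add, tmul_add, map_add, map_add]; exact (congrArg₂ (· + ·) hx hy)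
      | tmul v a =>
        rw [hφs, hφ0]
        simp only [AlgebraTensorModule.tensorTensorTensorComm_tmul]
        rw [show r ⊗ₜ[K] v = r • ((1 : R) ⊗ₜ[K] v) by rw [smul_tmul', smul_eq_mul, mul_one],
          show r ⊗ₜ[K] a = r • ((1 : R) ⊗ₜ[K] a) by rw [smul_tmul', smul_eq_mul, mul_one]]
        exact (smul_tmul r _ _)
  | succ n ih =>
    intro x
    induction x using TensorProduct.induction_on with
    | zero => rw [map_zero, map_zero, map_zero, map_zero]
    | add x y hx hy => rw [map_add, map_add, map_add, map_add, hx, hy]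
    | tmul r c =>
      induction c using TensorProduct.induction_on with
      | zero => rw [tmul_zero, map_zero, map_zero, map_zero, map_zero]
      | add x y hx hy => rw [tmul_add, map_add, map_add, map_add, map_add, hx, hy]
      | tmul c a =>
        rw [LinearMap.baseChange_tmul, Hoch.d_succ, LinearMap.add_apply, LinearMap.rTensor_tmul, LinearMap.smul_apply,
          tmul_add, map_add, hφs, hφs, Hoch.d_succ, LinearMap.add_apply, LinearMap.rTensor_tmul, LinearMap.smul_apply,
          ← LinearMap.baseChange_tmul, ih]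
        congr 1
        rw [tmul_smul, ← algebraMap_smul R ((-1 : K) ^ (n + 1)), map_pow, map_neg, map_one, map_smul]
        congr 1
        rw [Hoch.tail_tmul, Hoch.tail_tmul, ← Hoch.redComul_apply, ← Hoch.redComul_apply, redComul_one_tmul]
        generalize Hoch.redComul K A a = y
        induction y using TensorProduct.induction_on with
        | zero => simp
        | add x y hx hy =>
          simp only [tmul_add, map_add]
          exact congrArg₂ (· + ·) hx hy
        | tmul a b =>
          rw [double_tmul, TensorProduct.assoc_symm_tmul, TensorProduct.assoc_symm_tmul, hφs, hφs]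

variable [Module.Flat K R]

include hφ0 hφs in
theorem exists_equiv : letI := CoactBr.Comod.baseChange K R A V
    ∀ n : ℕ, ∃ e : R ⊗[K] Hoch.H K A V n ≃ₗ[R] Hoch.H R (R ⊗[K] A) (R ⊗[K] V) n,
      ∀ (r : R) (z : Hoch.cocycles K A V n)
        (hz : φ n (r ⊗ₜ[K] (z : Hoch.cochain K A V n)) ∈ Hoch.cocycles R (R ⊗[K] A) (R ⊗[K] V) n),
        e (r ⊗ₜ[K] Hoch.H.mk K A V n z) =
          Hoch.H.mk R (R ⊗[K] A) (R ⊗[K] V) n ⟨φ n (r ⊗ₜ[K] (z : Hoch.cochain K A V n)), hz⟩ := by
  letI := CoactBr.Comod.baseChange K R A V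
  intro n
  let R' := R ⊗[K] A
  let V' := R ⊗[K] V
  set Z := Hoch.cocycles K A V n with hZ
  have hbij := bijective φ hφ0 hφs
  have hc := comm φ hφ0 hφs
  have hmem : ∀ y : R ⊗[K] Z, φ n (Z.subtype.baseChange R y) ∈ Hoch.cocycles R (R ⊗[K] A) (R ⊗[K] V) n := by
    intro y
    rw [Hoch.cocycles, LinearMap.mem_ker, ← hc]
    have : (Hoch.d K A V n).baseChange R (Z.subtype.baseChange R y) = 0 := by
      rw [← LinearMap.comp_apply, ← LinearMap.baseChange_comp,
        show (Hoch.d K A V n) ∘ₗ Z.subtype = 0 from LinearMap.ext fun z => z.2, LinearMap.baseChange_zero,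
        LinearMap.zero_apply]
    rw [this, map_zero]
  let θ : R ⊗[K] Z →ₗ[R] Hoch.H R (R ⊗[K] A) (R ⊗[K] V) n :=
    Hoch.H.mk R (R ⊗[K] A) (R ⊗[K] V) n ∘ₗ LinearMap.codRestrict _ (φ n ∘ₗ Z.subtype.baseChange R) hmem
  let π := (Hoch.H.mk K A V n).baseChange R
  have hπ : Function.Surjective π := LinearMap.lTensor_surjective R (Submodule.mkQ_surjective _)
  have hθπ : ∀ y : R ⊗[K] Z, θ y = 0 → π y = 0 := by
    intro y hy
    have h1 : φ n (Z.subtype.baseChange R y) ∈ Hoch.coboundaries R (R ⊗[K] A) (R ⊗[K] V) n :=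
      by
      have h0 : Hoch.H.mk R (R ⊗[K] A) (R ⊗[K] V) n ⟨_, hmem y⟩ = 0 := hy
      have := (Submodule.Quotient.mk_eq_zero ((Hoch.coboundaries R (R ⊗[K] A) (R ⊗[K] V) n).comap (Hoch.cocycles R (R ⊗[K] A) (R ⊗[K] V) n).subtype)).1 h0
      exact this
    have h2 : (Hoch.coboundaries K A V n).mkQ.baseChange R (Z.subtype.baseChange R y) = 0 := by
      cases n with
      | zero =>
        have : Z.subtype.baseChange R y = 0 := (hbij 0).1 (((Submodule.mem_bot R).1 h1).trans (map_zero _).symm)
        rw [this, map_zero]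
      | succ m =>
        obtain ⟨w, hw⟩ := h1
        obtain ⟨w, rfl⟩ := (hbij m).2 w
        rw [← hc] at hw
        rw [← (hbij (m + 1)).1 hw, ← LinearMap.comp_apply, ← LinearMap.baseChange_comp,
          show (Hoch.coboundaries K A V (m + 1)).mkQ ∘ₗ Hoch.d K A V m = 0 from
            LinearMap.ext fun c => (Submodule.Quotient.mk_eq_zero _).2 ⟨c, rfl⟩, LinearMap.baseChange_zero,
          LinearMap.zero_apply]
    have hex : Function.Exact ((Hoch.coboundaries K A V n).comap Z.subtype).subtype
        ((Hoch.coboundaries K A V n).mkQ ∘ₗ Z.subtype) := by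
      rw [LinearMap.exact_iff, LinearMap.ker_comp, Submodule.ker_mkQ, Submodule.range_subtype]
    rw [← LinearMap.comp_apply, ← LinearMap.baseChange_comp] at h2
    obtain ⟨t, ht⟩ := (Module.Flat.lTensor_exact R hex y).1 h2
    rw [← ht]
    change ((Hoch.H.mk K A V n).lTensor R ∘ₗ ((Hoch.coboundaries K A V n).comap Z.subtype).subtype.lTensor R) t = 0
    rw [← LinearMap.lTensor_comp,
      show Hoch.H.mk K A V n ∘ₗ ((Hoch.coboundaries K A V n).comap Z.subtype).subtype = 0 from
        LinearMap.ext fun c => (Submodule.Quotient.mk_eq_zero _).2 c.2, LinearMap.lTensor_zero, LinearMap.zero_apply]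
  have hπθ : ∀ y : R ⊗[K] Z, π y = 0 → θ y = 0 := by
    intro y hy
    have hex : Function.Exact ((Hoch.coboundaries K A V n).comap Z.subtype).subtype (Hoch.H.mk K A V n) :=
      LinearMap.exact_iff.2 (by rw [Submodule.range_subtype]; exact Submodule.ker_mkQ _)
    obtain ⟨t, rfl⟩ := (Module.Flat.lTensor_exact R hex y).1 hy
    refine (Submodule.Quotient.mk_eq_zero _).2 ?_
    refine Submodule.mem_comap.2 ?_
    change φ n (Z.subtype.baseChange R (((Hoch.coboundaries K A V n).comap Z.subtype).subtype.lTensor R t)) ∈ _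
    clear hy
    induction t using TensorProduct.induction_on with
    | zero => simp
    | add a b ha hb => simp only [map_add]; exact add_mem ha hb
    | tmul r b =>
      rw [LinearMap.lTensor_tmul, LinearMap.baseChange_tmul]
      cases n with
      | zero =>
        have : ((b : Z) : Hoch.cochain K A V 0) = 0 := (Submodule.mem_bot K).1 b.2
        change φ 0 (r ⊗ₜ[K] ((b : Z) : Hoch.cochain K A V 0)) ∈ _
        rw [this, tmul_zero, map_zero]; exact zero_mem _
      | succ m =>
        obtain ⟨c, hcb⟩ := b.2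
        refine ⟨φ m (r ⊗ₜ[K] c), ?_⟩
        rw [← hc, LinearMap.baseChange_tmul, hcb]
        rfl
  have hsurj : Function.Surjective θ := by
    intro z'
    obtain ⟨⟨z', hz'⟩, rfl⟩ := Submodule.mkQ_surjective _ z'
    obtain ⟨x, rfl⟩ := (hbij n).2 z'
    have hx : (Hoch.d K A V n).baseChange R x = 0 := (hbij (n + 1)).1 (by rw [hc, map_zero]; exact hz')
    obtain ⟨y, rfl⟩ := (Module.Flat.lTensor_exact R (Hoch.d K A V n).exact_subtype_ker_map x).1 hx
    exact ⟨y, rfl⟩
  have hker : LinearMap.ker π = LinearMap.ker θ := le_antisymm hπθ hθπ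
  let e : R ⊗[K] Hoch.H K A V n ≃ₗ[R] Hoch.H R (R ⊗[K] A) (R ⊗[K] V) n :=
    (π.quotKerEquivOfSurjective hπ).symm ≪≫ₗ Submodule.quotEquivOfEq _ _ hker ≪≫ₗ θ.quotKerEquivOfSurjective hsurj
  refine ⟨e, fun r z hz => ?_⟩
  have hs : (π.quotKerEquivOfSurjective hπ).symm (r ⊗ₜ[K] Hoch.H.mk K A V n z) = Submodule.Quotient.mk (r ⊗ₜ[K] z) := by
    rw [LinearEquiv.symm_apply_eq]; rfl
  simp only [e, LinearEquiv.trans_apply, hs]
  rfl

end Groth.Agent.HochBC
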